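import Mathlib
import Groth.Prelude.Def_Curv2
import Groth.Agent.Lib.Helper6.LocIso.Birat
import Groth.Agent.Lib.Helper3.GeoReg4

/-!
# Varieties with isomorphic function fields have isomorphic nonempty opens (helper2)
-/

set_option backward.isDefEq.respectTransparency.types false
set_option synthInstance.maxHeartbeats 400000
set_option maxHeartbeats 4000000
set_option autoImplicit false
set_option linter.unusedSectionVars false
set_option linter.style.haveILetI false
set_option linter.unusedVariables false
universe u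
open CategoryTheory CategoryTheory.Limits AlgebraicGeometry TopologicalSpace IsLocalRing Opposite

namespace Groth.Agent.Lib.Helper2.BiratOpen

open Groth.Agent.Helper3.GeoReg

theorem fieldToStalk_eqToHom (k : Type u) [Field k] {a b : ↥(Spec (CommRingCat.of k))} (h : a = b)
    (c : k) :
    (eqToHom (congrArg (Spec (CommRingCat.of k)).presheaf.stalk h)).hom (fieldToStalk k a c) =
      fieldToStalk k b c := by
  subst h
  simp

theorem main (k : Type u) [Field k] (X : Scheme.{u}) [X.Over (Spec (CommRingCat.of k))]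
    [IsIntegral X] [LocallyOfFiniteType (X ↘ (Spec (CommRingCat.of k)))]
    (Y : Scheme.{u}) [Y.Over (Spec (CommRingCat.of k))] [IsIntegral Y]
    [LocallyOfFiniteType (Y ↘ (Spec (CommRingCat.of k)))]
    (e : X.functionField ≅ Y.functionField)
    (he : e.hom.hom.comp (Curv2.stalkMap k X (genericPoint X)) =
      Curv2.stalkMap k Y (genericPoint Y)) :
    ∃ (U : X.Opens) (V : Y.Opens), (U : Set ↥X).Nonempty ∧
      ∃ φ : (U : Scheme.{u}) ≅ (V : Scheme.{u}),
        φ.hom ≫ V.ι ≫ (Y ↘ (Spec (CommRingCat.of k))) =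
          U.ι ≫ (X ↘ (Spec (CommRingCat.of k))) := by
  haveI : Subsingleton ↥(Spec (CommRingCat.of k)) :=
    inferInstanceAs (Subsingleton (PrimeSpectrum k))
  have hs : (X ↘ (Spec (CommRingCat.of k))) (genericPoint X) =
      (Y ↘ (Spec (CommRingCat.of k))) (genericPoint Y) := Subsingleton.elim _ _
  have he' : (X ↘ (Spec (CommRingCat.of k))).stalkMap (genericPoint X) ≫ e.hom =
      eqToHom (congrArg (Spec (CommRingCat.of k)).presheaf.stalk hs) ≫
        (Y ↘ (Spec (CommRingCat.of k))).stalkMap (genericPoint Y) := by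
    ext a
    obtain ⟨c, rfl⟩ := (fieldToStalk_bijective k
      ((X ↘ (Spec (CommRingCat.of k))) (genericPoint X))).2 a
    have h1 := congrArg (fun g => g c) he
    simp only [RingHom.comp_apply] at h1
    rw [stalkMap_eq_comp k X (genericPoint X), stalkMap_eq_comp k Y (genericPoint Y)] at h1
    simp only [RingHom.comp_apply] at h1
    rw [CommRingCat.comp_apply, CommRingCat.comp_apply, fieldToStalk_eqToHom k hs c]
    exact h1
  obtain ⟨U, hxU, f, U', V, hUV, hfS, hxU', hyV, hIso⟩ :=
    Groth.Agent.Lib.Helper6.LocIso.exists_local_iso_of_stalk_iso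
      (X ↘ (Spec (CommRingCat.of k))) (Y ↘ (Spec (CommRingCat.of k)))
      (genericPoint X) (genericPoint Y) hs e he'
      (Or.inr ⟨inferInstance, inferInstance, inferInstance, inferInstance⟩)
  refine ⟨U.ι ''ᵁ U', V, ⟨U.ι ⟨genericPoint X, hxU⟩, ⟨_, hxU', rfl⟩⟩,
    (U.ι.isoImage U').symm ≪≫ asIso (f.resLE V U' hUV), ?_⟩
  simp only [Iso.trans_hom, Iso.symm_hom, asIso_hom, Category.assoc]
  rw [Scheme.Hom.resLE_comp_ι_assoc, hfS, ← Category.assoc U'.ι, ← Category.assoc,
    ← Category.assoc, Category.assoc _ U'.ι, Scheme.Hom.isoImage_inv_ι]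

end Groth.Agent.Lib.Helper2.BiratOpen
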